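import Groth.Agent.L29.Sib.QCohInj
import Groth.Agent.L00.PullStalk
import Groth.Agent.L00.StalkFunctor
import Groth.Agent.S11156
import Groth.Agent.L29.DCoh.ExtZero
import Mathlib.RingTheory.LocalProperties.Injective

/-!
# Quasi-coherent modules with injective stalks are injective
-/

set_option autoImplicit false
set_option backward.isDefEq.respectTransparency false
set_option linter.style.haveILetI false

universe u

open CategoryTheory CategoryTheory.Limits AlgebraicGeometry TopologicalSpace Opposite

noncomputable section

namespace Groth.L16.InjLocal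

/-- Extension of scalars along an isomorphism of rings preserves injectives. -/
theorem injective_extendScalars {A B : Type u} [CommRing A] [CommRing B] (φ : A →+* B)
    (hφ : Function.Bijective φ) (M : ModuleCat.{u} A) [Injective M] :
    Injective ((ModuleCat.extendScalars φ).obj M) := by
  let E := ModuleCat.restrictScalarsEquivalenceOfRingEquiv.{u} (RingEquiv.ofBijective φ hφ)
  let i : ModuleCat.extendScalars φ ≅ E.inverse :=
    (ModuleCat.extendRestrictScalarsAdj φ).leftAdjointUniq E.symm.toAdjunction
  haveI : Injective (E.inverse.obj M) := E.toAdjunction.map_injective M inferInstance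
  exact Injective.of_iso (i.app M).symm inferInstance

/-- A maximal ideal as a point. -/
abbrev pt {R : CommRingCat.{u}} (P : Ideal R) [P.IsMaximal] : Spec R := (⟨P, inferInstance⟩ : PrimeSpectrum R)

theorem isLocalization_pt {R : CommRingCat.{u}} (p : Spec R) :
    letI : Algebra R ((Spec R).presheaf.stalk p) :=
      (inferInstance : Algebra R ((AlgebraicGeometry.structurePresheafInCommRingCat R).stalk p))
    IsLocalization.AtPrime ((Spec R).presheaf.stalk p) p.asIdeal :=
  inferInstanceAs (IsLocalization.AtPrime ((AlgebraicGeometry.structurePresheafInCommRingCat R).stalk p) p.asIdeal)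

theorem isLocalizedModule_pt {R : CommRingCat.{u}} (N : ModuleCat.{u} R) (p : Spec R) :
    IsLocalizedModule p.asIdeal.primeCompl (tilde.toStalk N p).hom :=
  inferInstance

theorem injective_restrict_of_stalks {X : Scheme.{u}} {R : CommRingCat.{u}} [IsNoetherianRing R]
    (j : Spec R ⟶ X) [IsOpenImmersion j] (F : X.Modules) [Coh.IsQCoh F]
    (h : ∀ x : X, Module.Injective (X.presheaf.stalk x) (F.presheaf.stalk x)) :
    Injective (F.restrict j) := by
  obtain ⟨N, ⟨e⟩⟩ := Groth.L00.Local.exists_tilde_iso_restrict j F
  have hst : ∀ p : Spec R, Module.Injective ((Spec R).presheaf.stalk p) ((tilde N).presheaf.stalk p) := by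
    intro p
    haveI : Module.Injective (X.presheaf.stalk (j p)) (F.presheaf.stalk (j p)) := h (j p)
    haveI : Injective ((Groth.L00.Stk.F X (j p)).obj F) :=
      (Module.injective_iff_injective_object (X.presheaf.stalk (j p)) (F.presheaf.stalk (j p))).1 (h (j p))
    haveI : Injective ((Groth.L00.Stk.F (Spec R) p).obj ((Scheme.Modules.pullback j).obj F)) :=
      Injective.of_iso ((Groth.L00.PullStalk.stalkIso j p).app F).symm
        (injective_extendScalars _ (ConcreteCategory.bijective_of_isIso (j.stalkMap p)) _)
    haveI : Injective ((Groth.L00.Stk.F (Spec R) p).obj (tilde N)) :=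
      Injective.of_iso ((Groth.L00.Stk.F (Spec R) p).mapIso
        (((Scheme.Modules.restrictFunctorIsoPullback j).app F).symm ≪≫ e)) inferInstance
    exact (Module.injective_iff_injective_object ((Spec R).presheaf.stalk p) ((tilde N).presheaf.stalk p)).2 this
  letI alg : ∀ (P : Ideal R) [P.IsMaximal], Algebra R ((Spec R).presheaf.stalk (pt P)) := fun P _ =>
    (inferInstance : Algebra R ((AlgebraicGeometry.structurePresheafInCommRingCat R).stalk (pt P)))
  haveI : ∀ (P : Ideal R) [P.IsMaximal], IsLocalization.AtPrime ((Spec R).presheaf.stalk (pt P)) P := fun P _ =>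
    isLocalization_pt (pt P)
  haveI : ∀ (P : Ideal R) [P.IsMaximal],
      IsScalarTower R ((Spec R).presheaf.stalk (pt P)) ((tilde N).presheaf.stalk (pt P)) := fun P _ =>
    inferInstanceAs (IsScalarTower R ((AlgebraicGeometry.structurePresheafInCommRingCat R).stalk (pt P))
      ↑(TopCat.Presheaf.stalk (AlgebraicGeometry.moduleStructurePresheaf R N).presheaf (pt P)))
  haveI : ∀ (P : Ideal R) [P.IsMaximal], IsLocalizedModule P.primeCompl (tilde.toStalk N (pt P)).hom :=
    fun P _ => isLocalizedModule_pt N (pt P)
  have hN : Module.Injective R N :=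
    Module.injective_of_localization_maximal'
      (fun (P : Ideal R) [P.IsMaximal] => ((Spec R).presheaf.stalk (pt P) : Type u))
      (fun (P : Ideal R) [P.IsMaximal] => ((tilde N).presheaf.stalk (pt P) : Type u))
      (fun P _ => (tilde.toStalk N (pt P)).hom) (fun P _ => hst _)
  exact Injective.of_iso e.symm (Groth.L29.QCohInj.injective_tilde N hN)

theorem injective_of_stalks {X : Scheme.{u}} [IsLocallyNoetherian X] (F : X.Modules) [Coh.IsQCoh F]
    (h : ∀ x : X, Module.Injective (X.presheaf.stalk x) (F.presheaf.stalk x)) : Injective F := by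
  refine Groth.Agent.S11156.result F fun x => ?_
  obtain ⟨_, ⟨(U : X.Opens), hU, rfl⟩, hxU, -⟩ :=
    X.isBasis_affineOpens.exists_subset_of_mem_open (Set.mem_univ x) isOpen_univ
  haveI : IsNoetherianRing Γ(X, U) := IsLocallyNoetherian.component_noetherian ⟨U, hU⟩
  refine ⟨U, hxU, ?_⟩
  have hI := injective_restrict_of_stalks hU.fromSpec F h
  have hf : hU.isoSpec.hom ≫ hU.fromSpec = U.ι := hU.isoSpec_hom_fromSpec
  haveI := Groth.L29.DC.ExtZero.preservesFiniteLimits hU.isoSpec.hom
  haveI : (CxOX.extZero hU.isoSpec.hom).PreservesMonomorphisms := inferInstance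
  haveI : Injective ((Scheme.Modules.restrictFunctor hU.isoSpec.hom).obj (F.restrict hU.fromSpec)) :=
    (CxOX.extZeroAdj hU.isoSpec.hom).map_injective _ hI
  exact Injective.of_iso (((Scheme.Modules.restrictFunctorCongr hf).symm ≪≫
    Scheme.Modules.restrictFunctorComp hU.isoSpec.hom hU.fromSpec).app F).symm ‹_›

end Groth.L16.InjLocal
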