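import Groth.Agent.L22.ExtSh.StalkInjective
import Groth.Agent.L22.ExtSh.Vanish
import Groth.Agent.L22.PDual.ExtSheafHom
import Groth.Agent.L16.InjLocal.Main
import Mathlib.Algebra.Homology.DerivedCategory.Ext.ExactSequences

/-!
# Injectivity and vanishing of `Ext¹` sheaves
-/

set_option autoImplicit false
set_option backward.isDefEq.respectTransparency false
set_option linter.style.haveILetI false
universe u

open CategoryTheory CategoryTheory.Limits CategoryTheory.Abelian AlgebraicGeometry TopologicalSpace Opposite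

noncomputable section

namespace Groth.L16.InjLocal

variable {X : Scheme.{u}} [IsLocallyNoetherian X]

/-- Every ideal of a local ring is the stalk of a coherent ideal. -/
theorem exists_ideal_stalk (x : X) (J : Ideal (X.presheaf.stalk x)) :
    ∃ (IS : X.IdealSheafData) (ιx : (ClSub.idealMod IS).presheaf.stalk x →ₗ[X.presheaf.stalk x] X.presheaf.stalk x),
      (∀ v, ιx v ∈ J) ∧ (∀ r ∈ J, ∃ v, ιx v = r) ∧
      ∀ v, RefHull.stalkMapₗ (ClSub.idealModι IS) x v = ιx v • Groth.L21.RR.one X x := by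
  obtain ⟨V, hV, hxV, -⟩ := exists_isAffineOpen_mem_and_subset (x := x) (U := ⊤) trivial
  letI := X.presheaf.algebra_section_stalk (⟨x, hxV⟩ : V)
  haveI := hV.isLocalization_stalk ⟨x, hxV⟩
  let J₀ : Ideal Γ(X, V) := J.comap (algebraMap Γ(X, V) (X.presheaf.stalk x))
  let IS := Groth.L19.Approx.kerSpan ⟨V, hV⟩ J₀
  let K := ClSub.idealMod IS
  let ι := ClSub.idealModι IS
  haveI : Mono ι := inferInstanceAs (Mono (kernel.ι (ClSub.toSubscheme IS)))
  have hK : Coh.IsCoh K := Groth.L21.RR.isCoh_idealMod IS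
  haveI : Coh.IsQCoh K := hK.1
  have hmem : ∀ a : Γ(X, V), a ∈ J₀ ↔ ∃ m : Γ(K, V), (show Γ(X, V) from ι.app V m) = a := fun a => by
    rw [← Groth.L18.IdealModule.mem_ideal_iff IS hV a, Groth.L19.Approx.kerSpan_ideal_self]
  let sE := LinearEquiv.ofBijective (LinearMap.toSpanSingleton _ _ (Groth.L21.RR.one X x))
    (Groth.L21.RR.bijective_smul_one x)
  let ιx : K.presheaf.stalk x →ₗ[X.presheaf.stalk x] X.presheaf.stalk x :=
    sE.symm.toLinearMap.comp (RefHull.stalkMapₗ ι x)
  have hιgerm : ∀ (U : X.Opens) (hx : x ∈ U) (m : Γ(K, U)),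
      ιx (K.presheaf.germ U x hx m) = X.presheaf.germ U x hx (show Γ(X, U) from ι.app U m) := fun U hx m => by
    refine (LinearEquiv.symm_apply_eq sE).2 ?_
    rw [RefHull.stalkMapₗ_germ]
    exact Groth.L22.ExtSh.germ_mem_smul_one x hx _
  have hmem' : ∀ v, ιx v ∈ J := fun v => by
    letI := Groth.L20.ModStalk.stalkModule K hxV
    haveI := Groth.L20.ModStalk.isLocalizedModule_germ K hV hxV
    obtain ⟨⟨m, t⟩, hmt⟩ := IsLocalizedModule.surj (hV.primeIdealOf ⟨x, hxV⟩).asIdeal.primeCompl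
      (Groth.L20.ModStalk.germₗ K hxV) v
    have ht : IsUnit (algebraMap Γ(X, V) (X.presheaf.stalk x) t) := IsLocalization.map_units _ t
    have hmt' : algebraMap Γ(X, V) (X.presheaf.stalk x) t • v = K.presheaf.germ V x hxV m := hmt
    rw [← Ideal.unit_mul_mem_iff_mem J ht, ← smul_eq_mul, ← map_smul, hmt', hιgerm]
    exact (hmem _).2 ⟨m, rfl⟩
  have hsurj : ∀ r ∈ J, ∃ v, ιx v = r := fun r hr => by
    obtain ⟨⟨a, t⟩, hat⟩ := IsLocalization.surj (hV.primeIdealOf ⟨x, hxV⟩).asIdeal.primeCompl r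
    obtain ⟨m, hm⟩ := (hmem a).1 (show algebraMap _ _ a ∈ J by
      rw [← hat]; exact J.mul_mem_right _ hr)
    have ht : IsUnit (algebraMap Γ(X, V) (X.presheaf.stalk x) t) := IsLocalization.map_units _ t
    obtain ⟨c, hc⟩ := ht.exists_left_inv
    refine ⟨c • K.presheaf.germ V x hxV m, ?_⟩
    rw [map_smul, hιgerm, hm, smul_eq_mul]
    refine (congrArg (c * ·) hat.symm).trans ?_
    rw [mul_comm r, ← mul_assoc, hc, one_mul]
  exact ⟨IS, ιx, hmem', hsurj, fun v => (sE.apply_symm_apply _).symm⟩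

theorem injective_stalk_of_ext (F : X.Modules) (x : X)
    (h : ∀ G : X.Modules, Coh.IsCoh G → Subsingleton (Ext (ModuleCat.of (X.presheaf.stalk x) (G.presheaf.stalk x))
      (ModuleCat.of (X.presheaf.stalk x) (F.presheaf.stalk x)) 1)) :
    Module.Injective (X.presheaf.stalk x) (F.presheaf.stalk x) := by
  refine Module.Baer.injective fun J g => ?_
  obtain ⟨IS, ιx, hmem, hsurj, hst⟩ := exists_ideal_stalk x J
  have hS := (Groth.L21.RR.shortExact_idealSeq IS).map_of_exact (Groth.L00.Stk.F X x)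
  let R := X.presheaf.stalk x
  let f : ((Groth.L00.Stk.F X x).obj (ClSub.idealMod IS) : ModuleCat R) ⟶ ModuleCat.of R (F.presheaf.stalk x) :=
    ModuleCat.ofHom (g.comp (ιx.codRestrict J hmem))
  haveI := h (ClSub.quotMod IS) (Groth.L21.RR.isCoh_quotMod IS)
  obtain ⟨b, hb⟩ := Ext.contravariant_sequence_exact₁ hS (ModuleCat.of R (F.presheaf.stalk x)) (Ext.mk₀ f)
    (n₁ := 1) rfl (Subsingleton.elim (α := Ext (ModuleCat.of R ((ClSub.quotMod IS).presheaf.stalk x))
      (ModuleCat.of R (F.presheaf.stalk x)) 1) _ _)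
  obtain ⟨b, rfl⟩ := (Ext.mk₀_bijective _ _).2 b
  rw [Ext.mk₀_comp_mk₀] at hb
  have hb' := (Ext.mk₀_bijective _ _).1 hb
  refine ⟨LinearMap.toSpanSingleton _ _ (b.hom (Groth.L21.RR.one X x)), fun r hr => ?_⟩
  obtain ⟨v, rfl⟩ := hsurj r hr
  refine Eq.trans ?_ (congrArg (fun k => k.hom v) hb')
  show ιx v • b.hom (Groth.L21.RR.one X x) = b.hom (RefHull.stalkMapₗ (ClSub.idealModι IS) x v)
  rw [hst, map_smul]

theorem injective_iff [HasInjectiveResolutions X.Modules] (F : X.Modules) [Coh.IsQCoh F] :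
    Injective F ↔ ∀ (G : X.Modules) [DCoh.HasSheafHom G] [(DCoh.sheafHom G).Additive],
      Coh.IsCoh G → IsZero (((DCoh.sheafHom G).rightDerived 1).obj F) := by
  constructor
  · intro hI G _ _ _
    exact (DCoh.sheafHom G).isZero_rightDerived_obj_injective_succ 0 F
  · intro h
    refine injective_of_stalks F fun x => injective_stalk_of_ext F x fun G hG => ?_
    haveI := Groth.L17.Duality.hasSheafHom G
    haveI : DCoh.HasSheafHom G :=
      haveI := ((ModSite.sheafHomAdj (O := X.sheaf) G).ofNatIsoLeft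
        ((Groth.L17.ChangeRings.tensorRightBiIso G).symm ≪≫ Groth.L22.PDual.rightBiIso G))
      this.isLeftAdjoint
    have hz := h G hG
    let η := Groth.L22.PDual.homIso G
    haveI : HasInjectiveResolutions (ModSite.Mod X.sheaf) := ‹HasInjectiveResolutions X.Modules›
    let I : InjectiveResolution F := Classical.choice HasInjectiveResolution.out
    have hz' : IsZero (((ModSite.extSh (O := X.sheaf) G 1).obj F)) :=
      (hz.of_iso (I.isoRightDerivedObj (DCoh.sheafHom G) 1).symm).of_iso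
        ((I.isoRightDerivedObj (Groth.L17.ChangeRings.homMod G) 1) ≪≫
          (HomologicalComplex.homologyFunctor X.Modules (ComplexShape.up ℕ) 1).mapIso
            ((NatIso.mapHomologicalComplex η.symm (ComplexShape.up ℕ)).app _))
    exact (Groth.L22.ExtSh.isZero_extSh_iff hG F 1).1 hz' x

end Groth.L16.InjLocal
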